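import Groth.Agent.CharHomEquiv.Basic

/-!
# Consequences: classification of trivialised extensions by characteristic homomorphisms
-/

set_option autoImplicit false
universe u v
open TensorProduct KaehlerDifferential

namespace Groth.Agent.CharHomEquiv

variable {A : Type u} {B C L : Type v} [CommRing A] [CommRing B] [CommRing C]
  [Algebra A B] [Algebra B C] [Algebra A C] [IsScalarTower A B C] [AddCommGroup L] [Module C L]

/-- `C`-linear maps on `C ⊗ Ω_{B/A}` are determined on the elements `1 ⊗ db`. -/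
theorem ext_tmul_D {N : Type*} [AddCommGroup N] [Module C N] {f g : C ⊗[B] Ω[B⁄A] →ₗ[C] N}
    (h : ∀ b : B, f ((1 : C) ⊗ₜ KaehlerDifferential.D A B b) =
      g ((1 : C) ⊗ₜ KaehlerDifferential.D A B b)) : f = g := by
  refine LinearMap.ext fun y => ?_
  induction y using TensorProduct.induction_on with
  | zero => simp
  | add a b ha hb => rw [map_add, map_add, ha, hb]
  | tmul c ω =>
    have key : f ((1 : C) ⊗ₜ ω) = g ((1 : C) ⊗ₜ ω) := by
      induction (span_range_derivation A B).symm ▸ (Submodule.mem_top : ω ∈ ⊤) using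
        Submodule.span_induction with
      | mem x hx => obtain ⟨b, rfl⟩ := hx; exact h b
      | zero => simp
      | add x y _ _ hx hy => rw [TensorProduct.tmul_add, map_add, map_add, hx, hy]
      | smul b x _ hx =>
        rw [TensorProduct.tmul_smul, ← IsScalarTower.algebraMap_smul C b, map_smul, map_smul, hx]
    rw [show c ⊗ₜ[B] ω = c • ((1 : C) ⊗ₜ[B] ω) by
      rw [TensorProduct.smul_tmul', smul_eq_mul, mul_one], map_smul, map_smul, key]

/-- A map killing the imperfection module factors through `Ω_{C/A}`. -/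
theorem exists_factor
    (h : Module.Injective C L ∨
      ∃ s : Ω[C⁄B] →ₗ[C] Ω[C⁄A], ∀ ω : Ω[C⁄B], KaehlerDifferential.map A B C C (s ω) = ω)
    (T : C ⊗[B] Ω[B⁄A] →ₗ[C] L) (hT : EGA41.imperfection A B C ≤ LinearMap.ker T) :
    ∃ g : Ω[C⁄A] →ₗ[C] L, ∀ y, g (mapBaseChange A B C y) = T y := by
  let Tb : ↥(LinearMap.range (mapBaseChange A B C)) →ₗ[C] L :=
    (Submodule.liftQ (LinearMap.ker (mapBaseChange A B C)) T hT).comp (mapBaseChange A B C).quotKerEquivRange.symm.toLinearMap
  have hTb : ∀ y, Tb ⟨mapBaseChange A B C y, y, rfl⟩ = T y := by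
    intro y
    simp only [Tb, LinearMap.comp_apply, LinearEquiv.coe_coe]
    rw [LinearMap.quotKerEquivRange_symm_apply_image]
    rfl
  rcases h with hL | ⟨s, hs⟩
  · obtain ⟨g, hg⟩ := hL.out (LinearMap.range (mapBaseChange A B C)).subtype
      Subtype.val_injective Tb
    exact ⟨g, fun y => (hg ⟨_, y, rfl⟩).trans (hTb y)⟩
  · have hmem : ∀ ω, ω - s (KaehlerDifferential.map A B C C ω) ∈
        LinearMap.range (mapBaseChange A B C) := fun ω =>
      (exact_mapBaseChange_map A B C _).1 (by rw [map_sub, hs, sub_self])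
    let P : Ω[C⁄A] →ₗ[C] ↥(LinearMap.range (mapBaseChange A B C)) :=
      { toFun := fun ω => ⟨_, hmem ω⟩
        map_add' := fun a b => Subtype.ext (by
          simp only [map_add, Submodule.coe_add]; abel)
        map_smul' := fun c a => Subtype.ext (by
          simp only [RingHom.id_apply, Submodule.coe_smul]
          rw [LinearMap.map_smul_of_tower, LinearMap.map_smul, smul_sub]) }
    refine ⟨Tb.comp P, fun y => ?_⟩
    rw [LinearMap.comp_apply, ← hTb y]
    congr 1
    refine Subtype.ext ?_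
    change mapBaseChange A B C y - s (KaehlerDifferential.map A B C C (mapBaseChange A B C y)) = _
    rw [(exact_mapBaseChange_map A B C _).2 ⟨y, rfl⟩, map_zero, sub_zero]

/-- Injectivity of the characteristic homomorphism on classes. -/
theorem equiv_of_charHom_eq
    (h : Module.Injective C L ∨
      ∃ s : Ω[C⁄B] →ₗ[C] Ω[C⁄A], ∀ ω : Ω[C⁄B], KaehlerDifferential.map A B C C (s ω) = ω)
    (X Y : Exal.Ext B C L) (hX : X.IsTrivialOver A) (hY : Y.IsTrivialOver A)
    (χ : ↥(EGA41.imperfection A B C) →ₗ[C] L) (hXχ : X.IsCharHom A χ) (hYχ : Y.IsCharHom A χ) :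
    Nonempty (X.Equiv Y) := by
  letI : Module A L := Module.compHom L (algebraMap A C)
  letI : Module B L := Module.compHom L (algebraMap B C)
  haveI : IsScalarTower A C L := IsScalarTower.of_compHom A C L
  haveI : IsScalarTower B C L := IsScalarTower.of_compHom B C L
  haveI : IsScalarTower A B L := IsScalarTower.to₁₂₄ A B C L
  obtain ⟨s⟩ := sec_nonempty X hX
  obtain ⟨t⟩ := sec_nonempty Y hY
  obtain ⟨g, hg⟩ := exists_factor h (linOf C (derB t) - linOf C (derB s)) (fun z hz => by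
    rw [LinearMap.mem_ker, LinearMap.sub_apply, ← charHom_eq t χ hYχ ⟨z, hz⟩,
      ← charHom_eq s χ hXχ ⟨z, hz⟩, sub_self])
  refine equiv_of_der s t (g.compDer (KaehlerDifferential.D A C)) fun b => ?_
  have := hg ((1 : C) ⊗ₜ KaehlerDifferential.D A B b)
  rw [mapBaseChange_tmul, KaehlerDifferential.map_D, one_smul, LinearMap.sub_apply, linOf_tmul_D,
    linOf_tmul_D, one_smul, one_smul] at this
  exact this

/-- Surjectivity of the characteristic homomorphism. -/
theorem exists_charHom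
    (h : Module.Injective C L ∨ ∃ r : C ⊗[B] Ω[B⁄A] →ₗ[C] ↥(EGA41.imperfection A B C),
      ∀ z : ↥(EGA41.imperfection A B C), r z = z)
    (χ : ↥(EGA41.imperfection A B C) →ₗ[C] L) :
    ∃ X : Exal.Ext B C L, X.IsTrivialOver A ∧ X.IsCharHom A χ := by
  letI : Module A L := Module.compHom L (algebraMap A C)
  letI : Module B L := Module.compHom L (algebraMap B C)
  haveI : IsScalarTower A C L := IsScalarTower.of_compHom A C L
  haveI : IsScalarTower B C L := IsScalarTower.of_compHom B C L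
  haveI : IsScalarTower A B L := IsScalarTower.to₁₂₄ A B C L
  obtain ⟨T, hT⟩ : ∃ T : C ⊗[B] Ω[B⁄A] →ₗ[C] L,
      ∀ z : ↥(EGA41.imperfection A B C), T z.1 = χ z := by
    rcases h with hL | ⟨r, hr⟩
    · exact Module.Injective.out (self := hL) (X := ↥(EGA41.imperfection A B C))
        (Y := C ⊗[B] Ω[B⁄A]) (EGA41.imperfection A B C).subtype Subtype.val_injective χ
    · exact ⟨χ.comp r, fun z => by rw [LinearMap.comp_apply, hr]⟩
  let D : Derivation A B L :=
    ((T.restrictScalars B).comp (TensorProduct.mk B C Ω[B⁄A] 1)).compDer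
      (KaehlerDifferential.D A B)
  have htriv := isTrivialOver_of_sec _ (secOfDer (C := C) D)
  refine ⟨_, htriv, ?_⟩
  obtain ⟨χ', hχ', -⟩ := Groth.Agent.S5820.result (Exal.Ext.ofDerivation (C := C) D) htriv
  have hTD : linOf C D = T := ext_tmul_D fun b => by rw [linOf_tmul_D, one_smul]; rfl
  have : χ = χ' := LinearMap.ext fun z => by
    rw [charHom_eq (secOfDer (C := C) D) χ' hχ', derB_secOfDer, hTD, hT]
  rw [this]
  exact hχ'

/-- Over a formally smooth base change every extension is trivial. -/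
theorem isTrivialOver_of_formallySmooth [Algebra.FormallySmooth A C] (X : Exal.Ext B C L) :
    X.IsTrivialOver A := by
  let p : X.RestrictCarrier A →ₐ[A] C := (X.restrictBase A).proj
  have hsur : Function.Surjective p := X.isExtension.proj_surjective
  have hnil : IsNilpotent (RingHom.ker (p : X.RestrictCarrier A →+* C)) := by
    refine ⟨2, ?_⟩
    rw [pow_two, Ideal.zero_eq_bot, eq_bot_iff, Ideal.mul_le]
    intro x hx y hy
    obtain ⟨z, hz⟩ := (X.isExtension.exact y).1 hy
    rw [Ideal.mem_bot]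
    have hx' : X.proj x = 0 := hx
    have := X.isExtension.mul_incl x z
    rw [hx', zero_smul, map_zero, hz] at this
    exact this
  exact ⟨Algebra.FormallySmooth.liftOfSurjective (AlgHom.id A C) p hsur hnil,
    fun c => Algebra.FormallySmooth.liftOfSurjective_apply _ p hsur hnil c⟩

/-- The imperfection module is a direct summand and `Ω_{C/A} → Ω_{C/B}` splits. -/
theorem split_of_formallySmooth [Algebra.FormallySmooth A C] [Module.Projective C Ω[C⁄B]] :
    (∃ r : C ⊗[B] Ω[B⁄A] →ₗ[C] ↥(EGA41.imperfection A B C),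
        ∀ z : ↥(EGA41.imperfection A B C), r z = z) ∧
      ∃ s : Ω[C⁄B] →ₗ[C] Ω[C⁄A], ∀ ω : Ω[C⁄B], KaehlerDifferential.map A B C C (s ω) = ω := by
  obtain ⟨s, hs⟩ := Module.projective_lifting_property (KaehlerDifferential.map A B C C)
    LinearMap.id (KaehlerDifferential.map_surjective A B C)
  have hs' : ∀ ω, KaehlerDifferential.map A B C C (s ω) = ω := LinearMap.congr_fun hs
  refine ⟨?_, s, hs'⟩
  have hP : Module.Projective C ↥(LinearMap.range (mapBaseChange A B C)) := by
    have hmem : ∀ ω : Ω[C⁄A], (LinearMap.id (R := C) (M := Ω[C⁄A]) - s.comp (KaehlerDifferential.map A B C C)) ω ∈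
        LinearMap.range (mapBaseChange A B C) := fun ω =>
      (exact_mapBaseChange_map A B C _).1 (by
        simp only [LinearMap.sub_apply, LinearMap.id_apply, LinearMap.comp_apply, map_sub, hs',
          sub_self])
    let S : Ω[C⁄A] →ₗ[C] ↥(LinearMap.range (mapBaseChange A B C)) :=
      (LinearMap.id - s.comp (KaehlerDifferential.map A B C C)).codRestrict _ hmem
    refine Module.Projective.of_split (LinearMap.range (mapBaseChange A B C)).subtype S ?_
    refine LinearMap.ext fun y => Subtype.ext ?_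
    have : KaehlerDifferential.map A B C C (y : Ω[C⁄A]) = 0 :=
      (exact_mapBaseChange_map A B C _).2 y.2
    simp [S, this]
  obtain ⟨t, ht⟩ := Module.projective_lifting_property (mapBaseChange A B C).rangeRestrict
    LinearMap.id (mapBaseChange A B C).surjective_rangeRestrict
  have ht' : ∀ y, (mapBaseChange A B C).rangeRestrict (t y) = y := LinearMap.congr_fun ht
  have hmem : ∀ y, (LinearMap.id (R := C) (M := C ⊗[B] Ω[B⁄A]) - t.comp (mapBaseChange A B C).rangeRestrict) y ∈
      EGA41.imperfection A B C := fun y => LinearMap.mem_ker.2 (by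
    have := congrArg Subtype.val (ht' ((mapBaseChange A B C).rangeRestrict y))
    simpa [sub_eq_zero] using this.symm)
  refine ⟨(LinearMap.id - t.comp (mapBaseChange A B C).rangeRestrict).codRestrict _ hmem,
    fun z => Subtype.ext ?_⟩
  have : (mapBaseChange A B C).rangeRestrict (z : C ⊗[B] Ω[B⁄A]) = 0 :=
      Subtype.ext (LinearMap.mem_ker.1 z.2)
  simp [this]

/-! ### The infinitesimal extension -/

section Infinitesimal

variable (K : Ideal B)

instance instTowerCotangent : IsScalarTower A (B ⧸ K) K.Cotangent :=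
  IsScalarTower.to₁₃₄ A B (B ⧸ K) K.Cotangent

lemma derB_infinitesimal (s : Sec A (Exal.Ext.infinitesimal K)) (x : B) (hx : x ∈ K) :
    derB s x = K.toCotangent ⟨x, hx⟩ := by
  apply inclC_injective (A := A) (X := Exal.Ext.infinitesimal K)
  rw [incl_derB, Ideal.Quotient.algebraMap_eq, Ideal.Quotient.eq_zero_iff_mem.2 hx, map_zero,
    sub_zero]
  rfl

/-- An element of the imperfection module is `1 ⊗ dx` with `x ∈ K`. -/
lemma exists_eq_tmul_D (y : (B ⧸ K) ⊗[B] Ω[B⁄A])
    (hy : mapBaseChange A B (B ⧸ K) y = 0) :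
    ∃ x ∈ K, y = (1 : B ⧸ K) ⊗ₜ KaehlerDifferential.D A B x := by
  have hy' : y ∈ LinearMap.range (kerCotangentToTensor A B (B ⧸ K)) := by
    rw [range_kerCotangentToTensor A B (B ⧸ K) Ideal.Quotient.mk_surjective]
    exact LinearMap.mem_ker.2 hy
  obtain ⟨q, hq⟩ := hy'
  obtain ⟨⟨x, hx⟩, rfl⟩ := Ideal.toCotangent_surjective _ q
  refine ⟨x, Ideal.Quotient.eq_zero_iff_mem.1 (RingHom.mem_ker.1 hx), ?_⟩
  rw [← hq, kerCotangentToTensor_toCotangent]

lemma tmul_D_of_mem_sq (x : B) (hx : x ∈ K ^ 2) :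
    (1 : B ⧸ K) ⊗ₜ[B] KaehlerDifferential.D A B x = 0 := by
  rw [pow_two] at hx
  refine Submodule.mul_induction_on hx (fun a ha b hb => ?_) (fun a b ha hb => ?_)
  · have h : ∀ c ∈ K, ∀ ω : Ω[B⁄A], (1 : B ⧸ K) ⊗ₜ[B] (c • ω) = 0 := fun c hc ω => by
      rw [← TensorProduct.smul_tmul, Algebra.smul_def, mul_one, Ideal.Quotient.algebraMap_eq,
        Ideal.Quotient.eq_zero_iff_mem.2 hc, TensorProduct.zero_tmul]
    rw [Derivation.leibniz, TensorProduct.tmul_add, h a ha, h b hb, add_zero]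
  · rw [map_add, TensorProduct.tmul_add, ha, hb, add_zero]

lemma mapBaseChange_tmul_D_of_mem (x : B) (hx : x ∈ K) :
    mapBaseChange A B (B ⧸ K) ((1 : B ⧸ K) ⊗ₜ KaehlerDifferential.D A B x) = 0 := by
  rw [mapBaseChange_tmul, KaehlerDifferential.map_D, one_smul, Ideal.Quotient.algebraMap_eq,
    Ideal.Quotient.eq_zero_iff_mem.2 hx, map_zero]

lemma linOf_infinitesimal_tmul_D (s : Sec A (Exal.Ext.infinitesimal K)) (x : B) (hx : x ∈ K) :
    linOf (B ⧸ K) (derB s) ((1 : B ⧸ K) ⊗ₜ KaehlerDifferential.D A B x) =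
      K.toCotangent ⟨x, hx⟩ := by
  rw [linOf_tmul_D, one_smul, derB_infinitesimal K s x hx]

/-- The map of the infinitesimal extension is injective on the imperfection module. -/
lemma eq_zero_of_linOf_eq_zero (s : Sec A (Exal.Ext.infinitesimal K))
    (y : (B ⧸ K) ⊗[B] Ω[B⁄A]) (hy : mapBaseChange A B (B ⧸ K) y = 0)
    (h : linOf (B ⧸ K) (derB s) y = 0) : y = 0 := by
  obtain ⟨x, hx, rfl⟩ := exists_eq_tmul_D K y hy
  rw [linOf_infinitesimal_tmul_D K s x hx, Ideal.toCotangent_eq_zero] at h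
  exact tmul_D_of_mem_sq K x h

end Infinitesimal

/-- Bijectivity of the characteristic homomorphism of the infinitesimal extension. -/
theorem bijective_charHom_infinitesimal (K : Ideal B)
    (hK : (Exal.Ext.infinitesimal K).IsTrivialOver A)
    (χ : ↥(EGA41.imperfection A B (B ⧸ K)) →ₗ[B ⧸ K] K.Cotangent)
    (hχ : (Exal.Ext.infinitesimal K).IsCharHom A χ) : Function.Bijective χ := by
  obtain ⟨s⟩ := sec_nonempty _ hK
  refine ⟨fun z w h => Subtype.ext (sub_eq_zero.1 ?_), fun l => ?_⟩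
  · rw [charHom_eq s χ hχ z, charHom_eq s χ hχ w] at h
    refine eq_zero_of_linOf_eq_zero K s (z.1 - w.1) ?_ (by rw [map_sub, h, sub_self])
    rw [map_sub, LinearMap.mem_ker.1 z.2, LinearMap.mem_ker.1 w.2, sub_self]
  · obtain ⟨⟨x, hx⟩, rfl⟩ := K.toCotangent_surjective l
    exact ⟨⟨_, LinearMap.mem_ker.2 (mapBaseChange_tmul_D_of_mem K x hx)⟩,
      (charHom_eq s χ hχ _).trans (linOf_infinitesimal_tmul_D K s x hx)⟩

/-! ### Base change along `A → B` -/

section Infinitesimal2

variable {Λ : Type u} {A' B' : Type v} [CommRing Λ] [CommRing A'] [CommRing B']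
  [Algebra Λ A'] [Algebra Λ B'] [Algebra A' B'] [IsScalarTower Λ A' B']

/-- The map `C ⊗_A Ω_{A/Λ} → C ⊗_B Ω_{B/Λ}` for `C = B ⧸ K`. -/
noncomputable def psi (K : Ideal B') :
    (B' ⧸ K) ⊗[A'] Ω[A'⁄Λ] →ₗ[B' ⧸ K] (B' ⧸ K) ⊗[B'] Ω[B'⁄Λ] :=
  ((mapBaseChange Λ A' B').baseChange (B' ⧸ K)).comp
    (AlgebraTensorModule.cancelBaseChange A' B' (B' ⧸ K) (B' ⧸ K) Ω[A'⁄Λ]).symm.toLinearMap

lemma psi_tmul_D (K : Ideal B') (a : A') :
    psi K ((1 : B' ⧸ K) ⊗ₜ KaehlerDifferential.D Λ A' a) =
      (1 : B' ⧸ K) ⊗ₜ KaehlerDifferential.D Λ B' (algebraMap A' B' a) := by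
  simp only [psi, LinearMap.comp_apply, LinearEquiv.coe_coe,
    AlgebraTensorModule.cancelBaseChange_symm_tmul, LinearMap.baseChange_tmul,
    mapBaseChange_tmul, KaehlerDifferential.map_D, one_smul]

lemma mapBaseChange_psi (K : Ideal B') (y : (B' ⧸ K) ⊗[A'] Ω[A'⁄Λ]) :
    mapBaseChange Λ B' (B' ⧸ K) (psi K y) = mapBaseChange Λ A' (B' ⧸ K) y := by
  have : (mapBaseChange Λ B' (B' ⧸ K)).comp (psi K) = mapBaseChange Λ A' (B' ⧸ K) :=
    ext_tmul_D fun a => by
      rw [LinearMap.comp_apply, psi_tmul_D, mapBaseChange_tmul, mapBaseChange_tmul,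
        KaehlerDifferential.map_D, KaehlerDifferential.map_D, ← IsScalarTower.algebraMap_apply]
  exact LinearMap.congr_fun this y

lemma range_psi (K : Ideal B') (x : B') :
    (1 : B' ⧸ K) ⊗ₜ KaehlerDifferential.D Λ B' x ∈ LinearMap.range (psi (A' := A') (Λ := Λ) K) ↔
      (1 : B' ⧸ K) ⊗ₜ[B'] KaehlerDifferential.D A' B' x =
        (0 : (B' ⧸ K) ⊗[B'] Ω[B'⁄A']) := by
  have hex : Function.Exact ((mapBaseChange Λ A' B').lTensor (B' ⧸ K))
      ((KaehlerDifferential.map Λ A' B' B').lTensor (B' ⧸ K)) :=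
    lTensor_exact (B' ⧸ K) (exact_mapBaseChange_map Λ A' B')
      (KaehlerDifferential.map_surjective Λ A' B')
  have hg : (KaehlerDifferential.map Λ A' B' B').lTensor (B' ⧸ K)
      ((1 : B' ⧸ K) ⊗ₜ KaehlerDifferential.D Λ B' x) =
        (1 : B' ⧸ K) ⊗ₜ KaehlerDifferential.D A' B' x := by
    rw [LinearMap.lTensor_tmul, KaehlerDifferential.map_D]
    rfl
  rw [← hg, hex _]
  constructor
  · rintro ⟨y, hy⟩
    exact ⟨(AlgebraTensorModule.cancelBaseChange A' B' (B' ⧸ K) (B' ⧸ K) Ω[A'⁄Λ]).symm y,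
      by rw [← hy, ← LinearMap.baseChange_eq_ltensor]; rfl⟩
  · rintro ⟨y, hy⟩
    refine ⟨AlgebraTensorModule.cancelBaseChange A' B' (B' ⧸ K) (B' ⧸ K) Ω[A'⁄Λ] y, ?_⟩
    rw [psi, LinearMap.comp_apply, LinearEquiv.coe_coe, LinearEquiv.symm_apply_apply, ← hy,
      ← LinearMap.baseChange_eq_ltensor]


/-- Triviality over `Λ` of the infinitesimal extension, from that over `A`. -/
lemma isTrivialOver_infinitesimal (K : Ideal B')
    (htriv : ((Exal.Ext.infinitesimal K).restrictBase A').IsTrivialOver Λ) :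
    (Exal.Ext.infinitesimal K).IsTrivialOver Λ := by
  obtain ⟨s, hs⟩ := htriv
  refine ⟨{ toRingHom := s.toRingHom, commutes' := fun a => ?_ }, hs⟩
  refine (s.commutes a).trans ?_
  change algebraMap B' (B' ⧸ K ^ 2) (algebraMap A' B' (algebraMap Λ A' a)) =
    algebraMap B' (B' ⧸ K ^ 2) (algebraMap Λ B' a)
  rw [IsScalarTower.algebraMap_apply Λ A' B']

/-- The characteristic homomorphism relative to `Λ → A` factors through `psi`. -/
theorem exists_sec_charHom_eq (K : Ideal B')
    (htriv : ((Exal.Ext.infinitesimal K).restrictBase A').IsTrivialOver Λ)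
    (χ : ↥(EGA41.imperfection Λ A' (B' ⧸ K)) →ₗ[B' ⧸ K] K.Cotangent)
    (hχ : ((Exal.Ext.infinitesimal K).restrictBase A').IsCharHom Λ χ) :
    ∃ s : Sec Λ (Exal.Ext.infinitesimal K), ∀ z : ↥(EGA41.imperfection Λ A' (B' ⧸ K)),
      χ z = linOf (B' ⧸ K) (derB s) (psi K z.1) := by
  obtain ⟨s⟩ := sec_nonempty _ (isTrivialOver_infinitesimal K htriv)
  let s' : Sec Λ ((Exal.Ext.infinitesimal K).restrictBase A') :=
    { hom :=
        { toRingHom := s.hom.toRingHom
          commutes' := fun a => (s.hom.commutes a).trans (by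
            change algebraMap B' (B' ⧸ K ^ 2) (algebraMap Λ B' a) =
              algebraMap B' (B' ⧸ K ^ 2) (algebraMap A' B' (algebraMap Λ A' a))
            rw [IsScalarTower.algebraMap_apply Λ A' B']) }
      spec := s.spec }
  refine ⟨s, fun z => (charHom_eq s' χ hχ z).trans ?_⟩
  have hd : ∀ a : A', derB s' a = derB s (algebraMap A' B' a) := by
    intro a
    apply (Exal.Ext.infinitesimal K).isExtension.incl_injective
    refine (incl_derB s' a).trans ((incl_derB s (algebraMap A' B' a)).trans ?_).symm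
    rw [← IsScalarTower.algebraMap_apply A' B' (B' ⧸ K)]
    rfl
  have : linOf (B' ⧸ K) (derB s') = (linOf (B' ⧸ K) (derB s)).comp (psi K) :=
    ext_tmul_D fun a => by
      rw [LinearMap.comp_apply, psi_tmul_D, linOf_tmul_D, linOf_tmul_D, hd]
  exact LinearMap.congr_fun this z.1

/-- The kernel and the range of the characteristic homomorphism relative to `Λ → A`. -/
theorem charHom_ker_and_range (K : Ideal B')
    (htriv : ((Exal.Ext.infinitesimal K).restrictBase A').IsTrivialOver Λ)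
    (χ : ↥(EGA41.imperfection Λ A' (B' ⧸ K)) →ₗ[B' ⧸ K] K.Cotangent)
    (hχ : ((Exal.Ext.infinitesimal K).restrictBase A').IsCharHom Λ χ) :
    (∀ z : ↥(EGA41.imperfection Λ A' (B' ⧸ K)), χ z = 0 ↔ psi K z.1 = 0) ∧
      ∀ (x : B') (hx : x ∈ K),
        K.toCotangent ⟨x, hx⟩ ∈ LinearMap.range χ ↔
          (1 : B' ⧸ K) ⊗ₜ[B'] KaehlerDifferential.D A' B' x =
            (0 : (B' ⧸ K) ⊗[B'] Ω[B'⁄A']) := by
  obtain ⟨s, hs⟩ := exists_sec_charHom_eq K htriv χ hχ
  refine ⟨fun z => ⟨fun h => ?_, fun h => by rw [hs, h, map_zero]⟩, fun x hx => ?_⟩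
  · rw [hs] at h
    exact eq_zero_of_linOf_eq_zero K s _
      ((mapBaseChange_psi K z.1).trans (LinearMap.mem_ker.1 z.2)) h
  · rw [← range_psi (Λ := Λ) K x]
    constructor
    · rintro ⟨z, hz⟩
      refine ⟨z.1, sub_eq_zero.1 (eq_zero_of_linOf_eq_zero K s _ ?_ ?_)⟩
      · rw [map_sub, mapBaseChange_psi, LinearMap.mem_ker.1 z.2,
          mapBaseChange_tmul_D_of_mem K x hx, sub_self]
      · rw [map_sub, ← hs, hz, linOf_infinitesimal_tmul_D K s x hx, sub_self]
    · rintro ⟨y, hy⟩
      have hy' : y ∈ EGA41.imperfection Λ A' (B' ⧸ K) := LinearMap.mem_ker.2 (by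
        rw [← mapBaseChange_psi, hy, mapBaseChange_tmul_D_of_mem K x hx])
      exact ⟨⟨y, hy'⟩, by rw [hs, hy, linOf_infinitesimal_tmul_D K s x hx]⟩

/-- Injectivity when `B` is formally smooth over `A`. -/
theorem charHom_injective [Algebra.FormallySmooth A' B'] (K : Ideal B')
    (htriv : ((Exal.Ext.infinitesimal K).restrictBase A').IsTrivialOver Λ)
    (χ : ↥(EGA41.imperfection Λ A' (B' ⧸ K)) →ₗ[B' ⧸ K] K.Cotangent)
    (hχ : ((Exal.Ext.infinitesimal K).restrictBase A').IsCharHom Λ χ) :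
    Function.Injective χ := by
  obtain ⟨t, ht⟩ := Module.projective_lifting_property (KaehlerDifferential.map Λ A' B' B')
    LinearMap.id (KaehlerDifferential.map_surjective Λ A' B')
  have hinj : Function.Injective (mapBaseChange Λ A' B') := by
    rw [← LinearMap.ker_eq_bot, LinearMap.ker_eq_bot']
    intro y hy
    obtain ⟨w, rfl⟩ := (Algebra.H1Cotangent.exact_δ_mapBaseChange Λ A' B' y).1 hy
    rw [Subsingleton.elim w 0, map_zero]
  have hmem : ∀ ω : Ω[B'⁄Λ], (LinearMap.id (R := B') (M := Ω[B'⁄Λ]) -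
      t.comp (KaehlerDifferential.map Λ A' B' B')) ω ∈
        LinearMap.range (mapBaseChange Λ A' B') := fun ω =>
    (exact_mapBaseChange_map Λ A' B' _).1 (by
      have := LinearMap.congr_fun ht (KaehlerDifferential.map Λ A' B' B' ω)
      simp only [LinearMap.comp_apply, LinearMap.id_apply] at this
      simp only [LinearMap.sub_apply, LinearMap.id_apply, LinearMap.comp_apply, map_sub, this,
        sub_self])
  let l : Ω[B'⁄Λ] →ₗ[B'] B' ⊗[A'] Ω[A'⁄Λ] :=
    (LinearEquiv.ofInjective _ hinj).symm.toLinearMap.comp (LinearMap.codRestrict _ _ hmem)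
  have hl : l.comp (mapBaseChange Λ A' B') = LinearMap.id := by
    refine LinearMap.ext fun y => ?_
    simp only [l, LinearMap.comp_apply, LinearEquiv.coe_coe, LinearMap.id_apply]
    rw [LinearEquiv.symm_apply_eq]
    refine Subtype.ext ?_
    change mapBaseChange Λ A' B' y -
      t (KaehlerDifferential.map Λ A' B' B' (mapBaseChange Λ A' B' y)) = mapBaseChange Λ A' B' y
    rw [(exact_mapBaseChange_map Λ A' B' _).2 ⟨y, rfl⟩, map_zero, sub_zero]
  have hpsi : Function.Injective (psi (Λ := Λ) (A' := A') K) := by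
    refine Function.Injective.comp (g := (mapBaseChange Λ A' B').baseChange (B' ⧸ K)) ?_
      (AlgebraTensorModule.cancelBaseChange A' B' (B' ⧸ K) (B' ⧸ K) Ω[A'⁄Λ]).symm.injective
    refine Function.LeftInverse.injective (g := l.baseChange (B' ⧸ K)) fun y => ?_
    rw [← LinearMap.comp_apply, ← LinearMap.baseChange_comp, hl, LinearMap.baseChange_id,
      LinearMap.id_apply]
  intro z w h
  obtain ⟨s, hs⟩ := exists_sec_charHom_eq K htriv χ hχ
  rw [hs, hs] at h
  refine Subtype.ext (hpsi (sub_eq_zero.1 (eq_zero_of_linOf_eq_zero K s _ ?_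
    (by rw [map_sub, h, sub_self]))))
  rw [map_sub, mapBaseChange_psi, mapBaseChange_psi, LinearMap.mem_ker.1 z.2,
    LinearMap.mem_ker.1 w.2, sub_self]

end Infinitesimal2

end Groth.Agent.CharHomEquiv
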