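import Groth.Prelude.Def_Exal
import Groth.Prelude.Def_Exal2
import Groth.Prelude.Def_Exal3
import Groth.Prelude.Def_EGA41
import Groth.Agent.S5820
import Mathlib

/-!
# The derivation of a trivialised extension and the characteristic homomorphism

For a `B`-extension `X` of `C` by `L` with an `A`-algebra section `s` of its projection, `derB X s`
is the derivation `b ↦ i⁻¹ (b - s (v b))`; its `C`-linear extension `tee X s` to `C ⊗ Ω_{B/A}`
restricts on the imperfection module to the characteristic homomorphism.
-/

set_option autoImplicit false
universe u v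
open TensorProduct KaehlerDifferential

namespace Groth.Agent.CharHomEquiv

variable {A : Type u} {B C L : Type v} [CommRing A] [CommRing B] [CommRing C]
  [Algebra A B] [Algebra B C] [Algebra A C] [IsScalarTower A B C] [AddCommGroup L] [Module C L]

section Sec

variable (X : Exal.Ext B C L)

/-- An `A`-algebra section of the projection, on the carrier `CharCarrier`. -/
structure Sec (A : Type u) [CommRing A] [Algebra A B] [Algebra A C] [IsScalarTower A B C]
    (X : Exal.Ext B C L) where
  hom : C →ₐ[A] X.CharCarrier A
  spec : ∀ c, algebraMap (X.CharCarrier A) C (hom c) = c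

lemma sec_nonempty (hX : X.IsTrivialOver A) : Nonempty (Sec A X) := by
  obtain ⟨s, hs⟩ := hX
  exact ⟨⟨{ toRingHom := s.toRingHom, commutes' := fun a => s.commutes a }, hs⟩⟩

lemma isTrivialOver_of_sec (s : Sec A X) : X.IsTrivialOver A :=
  ⟨{ toRingHom := s.hom.toRingHom, commutes' := fun a => s.hom.commutes a }, s.spec⟩

/-- The action of the middle ring on `L` through the projection. -/
noncomputable instance modE : Module (X.CharCarrier A) L :=
  Module.compHom L (algebraMap (X.CharCarrier A) C)

lemma smul_def (e : X.CharCarrier A) (z : L) :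
    e • z = algebraMap (X.CharCarrier A) C e • z := rfl

instance : IsScalarTower (X.CharCarrier A) C L :=
  ⟨fun e c z => by rw [smul_def, Algebra.smul_def, mul_smul]⟩

instance [Module A L] [IsScalarTower A C L] : IsScalarTower A (X.CharCarrier A) L :=
  ⟨fun a e z => by
    rw [smul_def, smul_def, Algebra.algebraMap_eq_smul_one, smul_assoc a e (1 : C),
      smul_assoc a (e • (1 : C)) z, ← Algebra.algebraMap_eq_smul_one]⟩

instance [Module B L] [IsScalarTower B C L] : IsScalarTower B (X.CharCarrier A) L :=
  ⟨fun b e z => by
    rw [smul_def, smul_def, Algebra.algebraMap_eq_smul_one, smul_assoc b e (1 : C),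
      smul_assoc b (e • (1 : C)) z, ← Algebra.algebraMap_eq_smul_one]⟩

variable {X}

lemma spec_incl (z : L) : algebraMap (X.CharCarrier A) C (X.inclC A z) = 0 :=
  (X.isExtension.exact _).2 ⟨z, rfl⟩

lemma proj_sub_sec (s : Sec A X) (e : X.CharCarrier A) :
    algebraMap (X.CharCarrier A) C (e - s.hom (algebraMap (X.CharCarrier A) C e)) = 0 := by
  rw [map_sub, s.spec, sub_self]

/-- The underlying map of `derE`. -/
noncomputable def dFun (s : Sec A X) (e : X.CharCarrier A) : L :=
  X.kerLift (e - s.hom (algebraMap (X.CharCarrier A) C e)) (proj_sub_sec s e)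

lemma incl_dFun (s : Sec A X) (e : X.CharCarrier A) :
    X.inclC A (dFun s e) = e - s.hom (algebraMap (X.CharCarrier A) C e) :=
  X.incl_kerLift _ _

lemma inclC_injective : Function.Injective (X.inclC A) := X.isExtension.incl_injective

lemma dFun_incl (s : Sec A X) (z : L) : dFun s (X.inclC A z) = z :=
  inclC_injective (A := A) (X := X) (by rw [incl_dFun, spec_incl, map_zero, sub_zero])

lemma dFun_mul (s : Sec A X) (e f : X.CharCarrier A) :
    dFun s (e * f) = e • dFun s f + f • dFun s e := by
  apply inclC_injective (A := A) (X := X)
  rw [map_add, incl_dFun, smul_def, smul_def, map_mul, map_mul]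
  conv_rhs =>
    rw [← Groth.Agent.S5820.mul_inclC X e (dFun s f)]
    enter [2]
    rw [← s.spec (algebraMap (X.CharCarrier A) C f),
      ← Groth.Agent.S5820.mul_inclC X _ (dFun s e)]
  rw [incl_dFun, incl_dFun]
  ring

variable [Module A L] [IsScalarTower A C L]

/-- The derivation `e ↦ i⁻¹ (e - s (p e))` of the middle ring. -/
noncomputable def derE (s : Sec A X) : Derivation A (X.CharCarrier A) L :=
  Derivation.mk'
    { toFun := dFun s
      map_add' := fun e f => by
        apply inclC_injective (A := A) (X := X)
        rw [map_add, incl_dFun, incl_dFun, incl_dFun, map_add, map_add]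
        abel
      map_smul' := fun a e => by
        rw [RingHom.id_apply, Algebra.smul_def, dFun_mul]
        have h0 : dFun s (algebraMap A (X.CharCarrier A) a) = 0 := by
          apply inclC_injective (A := A) (X := X)
          rw [incl_dFun, map_zero, ← IsScalarTower.algebraMap_apply A (X.CharCarrier A) C,
            AlgHom.commutes, sub_self]
        rw [h0, smul_zero, add_zero, smul_def, ← IsScalarTower.algebraMap_apply A (X.CharCarrier A) C,
          algebraMap_smul] }
    (fun e f => dFun_mul s e f)

@[simp] lemma derE_apply (s : Sec A X) (e : X.CharCarrier A) : derE s e = dFun s e := rfl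

variable [Module B L] [IsScalarTower B C L] [IsScalarTower A B L]

/-- The derivation `b ↦ i⁻¹ (b - s (v b))` of `B`. -/
noncomputable def derB (s : Sec A X) : Derivation A B L := (derE s).compAlgebraMap B

lemma derB_apply (s : Sec A X) (b : B) :
    derB s b = dFun s (algebraMap B (X.CharCarrier A) b) := rfl

lemma incl_derB (s : Sec A X) (b : B) :
    X.inclC A (derB s b) = algebraMap B (X.CharCarrier A) b - s.hom (algebraMap B C b) := by
  rw [derB_apply, incl_dFun, ← IsScalarTower.algebraMap_apply B (X.CharCarrier A) C]

variable (C) in
/-- The `C`-linear map `C ⊗ Ω_{B/A} → L` of a derivation. -/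
noncomputable def linOf (D : Derivation A B L) : C ⊗[B] Ω[B⁄A] →ₗ[C] L :=
  D.liftKaehlerDifferential.liftBaseChange C

omit [IsScalarTower A C L] in
lemma linOf_tmul_D (D : Derivation A B L) (c : C) (b : B) :
    linOf C D (c ⊗ₜ KaehlerDifferential.D A B b) = c • D b := by
  rw [linOf, LinearMap.liftBaseChange_tmul, Derivation.liftKaehlerDifferential_comp_D]

/-- A characteristic homomorphism is the restriction of the map of the derivation of a section. -/
theorem charHom_eq (s : Sec A X) (χ : ↥(EGA41.imperfection A B C) →ₗ[C] L)
    (hχ : X.IsCharHom A χ) (z : ↥(EGA41.imperfection A B C)) :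
    χ z = linOf C (derB s) z.1 := by
  have h1 : ∀ l : L,
      ((derE s).liftKaehlerDifferential.liftBaseChange C) (X.deltaL A l) = l := by
    intro l
    change ((derE s).liftKaehlerDifferential.liftBaseChange C)
      ((1 : C) ⊗ₜ KaehlerDifferential.D A (X.CharCarrier A) (X.inclC A l)) = l
    rw [LinearMap.liftBaseChange_tmul, one_smul, Derivation.liftKaehlerDifferential_comp_D,
      derE_apply, dFun_incl]
  have h2 : ∀ y : C ⊗[B] Ω[B⁄A],
      ((derE s).liftKaehlerDifferential.liftBaseChange C) (X.baseChangeToMiddle A y) =
        linOf C (derB s) y := by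
    intro y
    induction y using TensorProduct.induction_on with
    | zero => simp
    | add a b ha hb => rw [map_add, map_add, map_add, ha, hb]
    | tmul c ω =>
      rw [Groth.Agent.S5820.baseChangeToMiddle_tmul, linOf, LinearMap.liftBaseChange_tmul,
        LinearMap.liftBaseChange_tmul]
      congr 1
      induction (span_range_derivation A B).symm ▸ (Submodule.mem_top : ω ∈ ⊤) using
        Submodule.span_induction with
      | mem x hx =>
        obtain ⟨b, rfl⟩ := hx
        rw [KaehlerDifferential.map_D, Derivation.liftKaehlerDifferential_comp_D,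
          Derivation.liftKaehlerDifferential_comp_D]
        rfl
      | zero => simp
      | add x y _ _ hx hy => rw [map_add, map_add, map_add, hx, hy]
      | smul b x _ hx =>
        rw [LinearMap.map_smul (KaehlerDifferential.map A A B (X.CharCarrier A)),
          LinearMap.map_smul_of_tower, LinearMap.map_smul, hx]
  rw [← h2, ← hχ z, h1]

/-- Two trivialised extensions whose derivations differ by a derivation of `C` are equivalent. -/
theorem equiv_of_der {Y : Exal.Ext B C L} (s : Sec A X) (t : Sec A Y) (δ : Derivation A C L)
    (hδ : ∀ b, δ (algebraMap B C b) = derB t b - derB s b) : Nonempty (X.Equiv Y) := by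
  -- the map `e ↦ t (p e) + i (d e + δ (p e))`
  let φ : X.CharCarrier A → Y.CharCarrier A := fun e =>
    t.hom (algebraMap (X.CharCarrier A) C e) +
      Y.inclC A (dFun s e + δ (algebraMap (X.CharCarrier A) C e))
  have hp : ∀ e, algebraMap (Y.CharCarrier A) C (φ e) = algebraMap (X.CharCarrier A) C e := by
    intro e
    simp only [φ, map_add, t.spec, spec_incl, add_zero]
  have hinl : ∀ (z w : L), Y.inclC A z * Y.inclC A w = 0 := by
    intro z w
    rw [Groth.Agent.S5820.mul_inclC, spec_incl, zero_smul, map_zero]
  have hmul : ∀ e f, φ (e * f) = φ e * φ f := by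
    intro e f
    have hl : ∀ (c : C) (w : L), t.hom c * Y.inclC A w = Y.inclC A (c • w) := by
      intro c w
      rw [Groth.Agent.S5820.mul_inclC, t.spec]
    have hd : δ (algebraMap (X.CharCarrier A) C (e * f)) =
        algebraMap (X.CharCarrier A) C e • δ (algebraMap (X.CharCarrier A) C f) +
          algebraMap (X.CharCarrier A) C f • δ (algebraMap (X.CharCarrier A) C e) := by
      rw [map_mul, Derivation.leibniz]
    simp only [φ]
    rw [hd, dFun_mul, smul_def, smul_def, map_mul, map_mul, add_mul, mul_add, mul_add, hinl,
      hl, mul_comm (Y.inclC A _) (t.hom _), hl]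
    simp only [smul_add, map_add]
    abel
  have hadd : ∀ e f, φ (e + f) = φ e + φ f := by
    intro e f
    have h : dFun s (e + f) = dFun s e + dFun s f := (derE s).map_add e f
    simp only [φ, h, map_add]
    abel
  have halg : ∀ b : B, φ (algebraMap B _ b) = algebraMap B _ b := by
    intro b
    have h := incl_derB t b
    simp only [φ, ← IsScalarTower.algebraMap_apply B (X.CharCarrier A) C, hδ, ← derB_apply]
    rw [add_sub_cancel, h, add_sub_cancel]
  have hone : φ 1 = 1 := by simpa using halg 1
  have hzero : φ 0 = 0 := by simpa using halg 0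
  let ψ : X.E →ₐ[B] Y.E :=
    { toFun := φ
      map_one' := hone
      map_mul' := hmul
      map_zero' := hzero
      map_add' := hadd
      commutes' := halg }
  have hincl : ∀ z, φ (X.inclC A z) = Y.inclC A z := by
    intro z
    simp only [φ, spec_incl, map_zero, dFun_incl, add_zero, zero_add]
  have hbij : Function.Bijective ψ := by
    constructor
    · rw [injective_iff_map_eq_zero]
      intro (e : X.CharCarrier A) (he : φ e = 0)
      have he' : algebraMap (X.CharCarrier A) C e = 0 := by
        rw [← hp e]
        exact (congrArg (algebraMap (Y.CharCarrier A) C) he).trans (map_zero _)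
      obtain ⟨z, rfl⟩ := (X.isExtension.exact e).1 he'
      have hz : z = 0 := inclC_injective (A := A)
        (((hincl z).symm.trans he).trans (map_zero (Y.inclC A)).symm)
      rw [hz, map_zero]
    · intro (y : Y.CharCarrier A)
      obtain ⟨e, he⟩ : ∃ e : X.CharCarrier A, algebraMap (X.CharCarrier A) C e =
          algebraMap (Y.CharCarrier A) C y :=
        X.isExtension.proj_surjective _
      have hk : algebraMap (Y.CharCarrier A) C (y - φ e) = 0 := by
        rw [map_sub, hp]
        exact sub_eq_zero.2 he.symm
      obtain ⟨z, hz⟩ := (Y.isExtension.exact _).1 hk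
      refine ⟨e + X.inclC A z, ?_⟩
      change φ (e + X.inclC A z) = y
      rw [hadd, hincl]
      exact (eq_sub_iff_add_eq'.1 hz)
  exact ⟨{ toAlgEquiv := AlgEquiv.ofBijective ψ hbij
           proj_apply := hp
           apply_incl := hincl }⟩

end Sec

section OfDer

variable [Module A L] [IsScalarTower A C L] [Module B L] [IsScalarTower B C L] [IsScalarTower A B L]

attribute [local instance] Exal.opModule Exal.isCentralScalar_opModule

/-- The canonical section of the extension attached to a derivation. -/
noncomputable def secOfDer (D : Derivation A B L) :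
    Sec A (Exal.Ext.ofDerivation (C := C) D) where
  hom :=
    { toRingHom := (TrivSqZeroExt.inlHom C L : C →+* TrivSqZeroExt C L)
      commutes' := fun a => by
        change TrivSqZeroExt.inl (algebraMap A C a) =
          TrivSqZeroExt.inl (algebraMap B C (algebraMap A B a)) +
            TrivSqZeroExt.inr (D (algebraMap A B a))
        rw [Derivation.map_algebraMap, TrivSqZeroExt.inr_zero, add_zero,
          ← IsScalarTower.algebraMap_apply] }
  spec := fun _ => rfl

lemma derB_secOfDer (D : Derivation A B L) : derB (secOfDer (C := C) D) = D := by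
  ext b
  apply inclC_injective (A := A) (X := Exal.Ext.ofDerivation (C := C) D)
  rw [incl_derB]
  change (TrivSqZeroExt.inl (algebraMap B C b) + TrivSqZeroExt.inr (D b) : TrivSqZeroExt C L) -
    TrivSqZeroExt.inl (algebraMap B C b) = TrivSqZeroExt.inr (D b)
  rw [add_sub_cancel_left]

end OfDer

end Groth.Agent.CharHomEquiv
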