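import Groth.Agent.CharHomEquiv.Apply

/-!
# Extensions attached to derivations
-/

set_option autoImplicit false
universe u v
open TensorProduct KaehlerDifferential

namespace Groth.Agent.CharHomEquiv

variable {A : Type u} {B C L : Type v} [CommRing A] [CommRing B] [CommRing C]
  [Algebra A B] [Algebra B C] [Algebra A C] [IsScalarTower A B C] [AddCommGroup L] [Module C L]
  [Module A L] [IsScalarTower A C L] [Module B L] [IsScalarTower B C L] [IsScalarTower A B L]

attribute [local instance] Exal.opModule Exal.isCentralScalar_opModule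

/-- Transport of triviality along an equivalence. -/
lemma sec_of_equiv {X Y : Exal.Ext B C L} (e : X.Equiv Y) (t : Sec A Y) : X.IsTrivialOver A := by
  refine isTrivialOver_of_sec X
    ⟨{ toRingHom := e.toAlgEquiv.symm.toRingEquiv.toRingHom.comp t.hom.toRingHom
       commutes' := fun a => ?_ }, fun c => ?_⟩
  · change e.toAlgEquiv.symm (t.hom (algebraMap A C a)) = algebraMap B X.E (algebraMap A B a)
    rw [t.hom.commutes]
    exact e.toAlgEquiv.symm.commutes _
  · exact (e.symm.proj_apply (t.hom c)).trans (t.spec c)

theorem isTrivialOver_iff (X : Exal.Ext B C L) :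
    X.IsTrivialOver A ↔
      ∃ D : Derivation A B L, Nonempty (X.Equiv (Exal.Ext.ofDerivation (C := C) D)) := by
  constructor
  · intro hX
    obtain ⟨s⟩ := sec_nonempty X hX
    exact ⟨derB s, equiv_of_der s (secOfDer (C := C) (derB s)) 0 fun b => by
      rw [derB_secOfDer, sub_self, Derivation.zero_apply]⟩
  · rintro ⟨D, ⟨e⟩⟩
    exact sec_of_equiv e (secOfDer (C := C) D)

theorem ofDerivation_isTrivial_iff (D : Derivation A B L) :
    (Exal.Ext.ofDerivation (C := C) D).IsTrivial ↔
      ∃ D' : Derivation A C L, D'.compAlgebraMap B = D := by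
  constructor
  · rintro ⟨s, hs⟩
    let t : Sec A (Exal.Ext.ofDerivation (C := C) D) :=
      { hom :=
          { toRingHom := s.toRingHom
            commutes' := fun a => by
              rw [IsScalarTower.algebraMap_apply A B C]
              exact s.commutes _ }
        spec := hs }
    refine ⟨Derivation.mk' ((derE (secOfDer (C := C) D)).toLinearMap.comp t.hom.toLinearMap)
      fun a b => ?_, ?_⟩
    · change derE (secOfDer (C := C) D) (t.hom (a * b)) =
        a • derE (secOfDer (C := C) D) (t.hom b) + b • derE (secOfDer (C := C) D) (t.hom a)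
      rw [map_mul, Derivation.leibniz, smul_def, smul_def, t.spec, t.spec]
    · ext b
      change derE (secOfDer (C := C) D) (t.hom (algebraMap B C b)) = D b
      have : t.hom (algebraMap B C b) = algebraMap B _ b := s.commutes b
      rw [this]
      exact congr($(derB_secOfDer (C := C) D) b)
  · rintro ⟨D', hD'⟩
    refine ⟨{ toRingHom := Exal.Ext.derivationHom (C := C) D', commutes' := fun b => ?_ },
      fun c => ?_⟩
    · change (TrivSqZeroExt.inl (algebraMap B C b) + TrivSqZeroExt.inr (D' (algebraMap B C b)) :
          TrivSqZeroExt C L) = TrivSqZeroExt.inl (algebraMap B C b) + TrivSqZeroExt.inr (D b)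
      rw [← hD']
      rfl
    · change TrivSqZeroExt.fst (TrivSqZeroExt.inl c + TrivSqZeroExt.inr (D' c) :
        TrivSqZeroExt C L) = c
      rw [TrivSqZeroExt.fst_add, TrivSqZeroExt.fst_inl, TrivSqZeroExt.fst_inr, add_zero]

end Groth.Agent.CharHomEquiv
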